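import Groth.Agent.AmpleX.Basis
import Groth.Agent.AmpleX.Separated
import Groth.Agent.ZeroSchX.Basic
import Groth.Prelude.Def_BlowUp2

/-!
# A Cartier divisor supported off a given open on a scheme with an ample module
-/

set_option autoImplicit false
universe u

open CategoryTheory AlgebraicGeometry TopologicalSpace

set_option backward.isDefEq.respectTransparency false
set_option backward.isDefEq.respectTransparency.types false

namespace Groth.Agent.ZBProjBir

open Groth.Agent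

theorem exists_divisor {X : Scheme.{u}} [IsIntegral X] (M : X.Modules) (hM : CohB1.IsAmple M)
    (U₁ : X.Opens) {x : X} (hx : x ∈ U₁) :
    ∃ D : X.IdealSheafData, BlowUp.IsEffCartierIdeal D ∧
      ∀ U : X.affineOpens, ∀ d ∈ D.ideal U, X.basicOpen d ≤ U₁ := by
  have := AmpleX.isSeparated_of_isAmple hM
  obtain ⟨m, -, s, hxs, hle, -⟩ := AmpleX.exists_genLocus_le hM hx
  have hL := InvX.isInvertible_tensorPow hM.1 m
  let L := CohB1.tensorPow M m
  have hchart : ∀ y : X, ∃ (V : X.affineOpens) (f : Γ(L, V.1)) (c : Γ(X, V.1)),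
      y ∈ V.1 ∧ InvX.IsFrame f ∧ ZeroSchX.sv s V.1 = c • f := fun y => by
    obtain ⟨W, hyW, f, hf⟩ := InvX.exists_frame hL y
    obtain ⟨_, ⟨V, hV, rfl⟩, hyV, hVW⟩ :=
      X.isBasis_affineOpens.exists_subset_of_mem_open hyW W.isOpen
    obtain ⟨c, hc⟩ := (hf V hVW).2 (ZeroSchX.sv s V)
    exact ⟨⟨V, hV⟩, _, c, hyV, hf.res hVW, hc.symm⟩
  have hone : ∀ V : X.Opens,
      ZeroSchX.sv s V = AModX.res L (le_top : V ≤ ⊤) (InvX.one s) := fun V =>
    (InvX.app_eq_smul s (1 : Γ(X, V))).trans (one_smul _ _)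
  have hgl : ∀ (V : X.Opens) (f : Γ(L, V)) (c : Γ(X, V)), InvX.IsFrame f →
      ZeroSchX.sv s V = c • f → CohB1.genLocus L s ⊓ V = X.basicOpen c := fun V f c hf hc =>
    InvX.genLocus_inf s hf ((hone V).symm.trans hc)
  have hcart : BlowUp.IsEffCartierIdeal (PicF2.zeroScheme L s) := fun y => by
    obtain ⟨V, f, c, hyV, hf, hc⟩ := hchart y
    have : Nonempty V.1 := ⟨⟨y, hyV⟩⟩
    refine ⟨V, hyV, c, mem_nonZeroDivisors_of_ne_zero fun h0 => ?_, ?_⟩
    · have h1 := hgl V.1 f c hf hc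
      rw [h0, Scheme.basicOpen_zero] at h1
      have hg : genericPoint X ∈ CohB1.genLocus L s ⊓ V.1 :=
        ⟨((genericPoint_spec X).specializes trivial).mem_open (CohB1.genLocus L s).2 hxs,
          ((genericPoint_spec X).specializes trivial).mem_open V.1.2 hyV⟩
      exact h1.le hg
    · rw [ZeroSchX.ideal_zeroScheme hL, ZeroSchX.zeroIdealOn_eq_span s hf hc]
  refine ⟨PicF2.zeroScheme L s, hcart, fun U d hd y hy => hle ?_⟩
  obtain ⟨V, f, c, hyV, hf, hc⟩ := hchart y
  obtain ⟨W, hW, hyW, hWle⟩ := exists_isAffineOpen_mem_and_subset (X := X) (x := y) (U := U.1 ⊓ V.1)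
    ⟨X.basicOpen_le d hy, hyV⟩
  have hWU : W ≤ U.1 := fun z hz => (hWle hz).1
  have hWV : W ≤ V.1 := fun z hz => (hWle hz).2
  have hdW : (X.presheaf.map (homOfLE hWU).op).hom d ∈
      Ideal.span {(X.presheaf.map (homOfLE hWV).op).hom c} := by
    have h1 : (X.presheaf.map (homOfLE hWU).op).hom d ∈
        (PicF2.zeroScheme L s).ideal ⟨W, hW⟩ :=
      ((PicF2.zeroScheme L s).map_ideal (U := ⟨W, hW⟩) (V := U) hWU).le (Ideal.mem_map_of_mem _ hd)
    have h2 : (PicF2.zeroScheme L s).ideal V = Ideal.span {c} := by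
      rw [ZeroSchX.ideal_zeroScheme hL, ZeroSchX.zeroIdealOn_eq_span s hf hc]
    refine (((PicF2.zeroScheme L s).map_ideal (U := ⟨W, hW⟩) (V := V) hWV).symm.trans
      ((congrArg (Ideal.map _) h2).trans ?_)).le h1
    exact (Ideal.map_span _ _).trans (congrArg Ideal.span Set.image_singleton)
  obtain ⟨r, hr⟩ := Ideal.mem_span_singleton'.mp hdW
  refine ((hgl V.1 f c hf hc).ge ?_).1
  have hy' : y ∈ X.basicOpen ((X.presheaf.map (homOfLE hWU).op).hom d) := by
    rw [Scheme.basicOpen_res]; exact ⟨hyW, hy⟩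
  rw [← hr, Scheme.basicOpen_mul, Scheme.basicOpen_res] at hy'
  exact hy'.2.2

end Groth.Agent.ZBProjBir
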