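import Groth.Agent.ZBProjBir.Frac
import Groth.Prelude.Def_BlowUp2

/-!
# The fractional ideal generated by the coordinates, cleared of denominators
-/

set_option autoImplicit false
universe u

open CategoryTheory CategoryTheory.Limits AlgebraicGeometry TopologicalSpace

namespace Groth.Agent.ZBProjBir

variable {X Z : Scheme.{u}} [IsIntegral Z] [IsIntegral X] {N : ℕ}
  (i : Z ⟶ CohB1.ProjSpaceOver.{u} N X) (hη : (ff i) (genericPoint Z) = genericPoint X)

/-- The denominators of the coordinates. -/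
noncomputable def den (U : X.affineOpens) : Ideal Γ(X, U.1) where
  carrier := {x | ∀ (h : genericPoint Z ∈ ff i ⁻¹ᵁ U.1) (m : Fin (N + 1)),
    ∃ y : Γ(X, U.1), φ i h y = a i m * φ i h x}
  zero_mem' := fun h m => ⟨0, by simp⟩
  add_mem' := fun {x x'} hx hx' h m => by
    obtain ⟨y, hy⟩ := hx h m
    obtain ⟨y', hy'⟩ := hx' h m
    exact ⟨y + y', by simp [hy, hy', mul_add]⟩
  smul_mem' := fun c x hx h m => by
    obtain ⟨y, hy⟩ := hx h m
    exact ⟨c * y, by rw [smul_eq_mul, map_mul, map_mul, hy]; ring⟩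

theorem mem_den {U : X.affineOpens} {x : Γ(X, U.1)} : x ∈ den i U ↔
    ∀ (h : genericPoint Z ∈ ff i ⁻¹ᵁ U.1) (m : Fin (N + 1)),
      ∃ y : Γ(X, U.1), φ i h y = a i m * φ i h x := Iff.rfl

theorem map_den_le (U : X.affineOpens) (g : Γ(X, U.1)) :
    (den i U).map (X.presheaf.map (homOfLE (X.basicOpen_le g)).op).hom ≤
      den i (X.affineBasicOpen g) := by
  refine Ideal.map_le_iff_le_comap.mpr fun x hx h m => ?_
  obtain ⟨y, hy⟩ := hx (X.basicOpen_le g h) m
  refine ⟨(X.presheaf.map (homOfLE (X.basicOpen_le g)).op).hom y, ?_⟩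
  exact (φ_res i (X.basicOpen_le g) h y).trans (hy.trans (by rw [← φ_res i (X.basicOpen_le g) h x]; rfl))

include hη in
theorem exists_pow_den (D : X.IdealSheafData) {U₁ : X.Opens}
    (h₁ : genericPoint Z ∈ ff i ⁻¹ᵁ U₁) (hreg : ∀ m, ∃ x : Γ(X, U₁), φ i h₁ x = a i m)
    (hsupp : ∀ U : X.affineOpens, ∀ d ∈ D.ideal U, X.basicOpen d ≤ U₁)
    (U : X.affineOpens) [IsNoetherianRing Γ(X, U.1)] :
    ∃ n : ℕ, D.ideal U ^ n ≤ den i U := by
  refine Ideal.exists_pow_le_of_le_radical_of_fg (fun d hd => ?_) (IsNoetherian.noetherian _)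
  by_cases hU : genericPoint Z ∈ ff i ⁻¹ᵁ U.1
  swap
  · exact Ideal.le_radical fun h => absurd h hU
  by_cases hd0 : X.basicOpen d = ⊥
  · rw [basicOpen_eq_bot_iff] at hd0
    exact hd0 ▸ zero_mem _
  obtain ⟨z, hz⟩ : ((X.basicOpen d : X.Opens) : Set X).Nonempty :=
    Set.nonempty_iff_ne_empty.mpr fun h => hd0 (Opens.ext h)
  have hηd : genericPoint Z ∈ ff i ⁻¹ᵁ X.basicOpen d := mem_preimage i hη ⟨z, hz⟩
  classical
  have hloc := U.2.isLocalization_basicOpen d
  have key : ∀ m, ∃ (k : ℕ) (y : Γ(X, U.1)), φ i hU y = a i m * φ i hU (d ^ k) := fun m => by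
    obtain ⟨x, hx⟩ := hreg m
    let r := (X.presheaf.map (homOfLE (hsupp U d hd)).op).hom x
    obtain ⟨⟨y, ⟨_, k, rfl⟩⟩, hy⟩ := IsLocalization.surj (Submonoid.powers d) r
    refine ⟨k, y, ?_⟩
    have h2 := congrArg (φ i hηd) hy
    rw [map_mul] at h2
    erw [φ_res i (X.basicOpen_le d) hηd, φ_res i (hsupp U d hd) hηd,
      φ_res i (X.basicOpen_le d) hηd] at h2
    rw [← hx]
    exact h2.symm
  choose k y hky using key
  refine ⟨∑ m, k m, fun h m => ⟨y m * d ^ (∑ m' ∈ Finset.univ.erase m, k m'), ?_⟩⟩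
  rw [map_mul, hky, mul_assoc, ← map_mul, ← pow_add,
    Finset.add_sum_erase _ k (Finset.mem_univ m)]

include hη in
/-- All local bounds fit together. -/
theorem exists_pow_den_all [IsNoetherian X] (D : X.IdealSheafData) {U₁ : X.Opens}
    (h₁ : genericPoint Z ∈ ff i ⁻¹ᵁ U₁) (hreg : ∀ m, ∃ x : Γ(X, U₁), φ i h₁ x = a i m)
    (hsupp : ∀ U : X.affineOpens, ∀ d ∈ D.ideal U, X.basicOpen d ≤ U₁) :
    ∃ n : ℕ, ∀ U : X.affineOpens, (D ^ n).ideal U ≤ den i U := by
  classical
  obtain ⟨s, hs⟩ := isCompact_univ.elim_finite_subcover (fun U : X.affineOpens => (U.1 : Set X))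
    (fun U => U.1.2) fun x _ => by
      obtain ⟨U, hU, hxU, -⟩ := exists_isAffineOpen_mem_and_subset (X := X) (x := x) (U := ⊤) trivial
      exact Set.mem_iUnion.mpr ⟨⟨U, hU⟩, hxU⟩
  choose k hk using fun U : X.affineOpens =>
    have := IsLocallyNoetherian.component_noetherian (X := X) U
    exists_pow_den i hη D h₁ hreg hsupp U
  refine ⟨s.sup k, fun U => ?_⟩
  rw [Scheme.IdealSheafData.ideal_pow, Pi.pow_apply]
  have hcov : ⨆ V : s, ((V.1 : X.affineOpens) : X.Opens) = ⊤ := by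
    refine top_le_iff.mp fun x _ => ?_
    obtain ⟨V, hV, hxV⟩ := Set.mem_iUnion₂.mp (hs (Set.mem_univ x))
    exact Opens.mem_iSup.mpr ⟨⟨V, hV⟩, hxV⟩
  have hpow : ∀ (U : X.affineOpens) (g : Γ(X, U.1)) (n : ℕ),
      (D.ideal U ^ n).map (X.presheaf.map (homOfLE (X.basicOpen_le g)).op).hom =
        D.ideal (X.affineBasicOpen g) ^ n := fun U g n =>
    (Ideal.map_pow _ _ _).trans (congrArg (· ^ n) (D.map_ideal_basicOpen U g))
  induction U using of_affine_open_cover (ι := s) (iSup_U := hcov) with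
  | basicOpen U g IH =>
    exact (hpow U g _).ge.trans ((Ideal.map_mono IH).trans (map_den_le i U g))
  | openCover U t ht IH =>
    intro x hx h m
    let B : Ideal Γ(X, U.1) :=
      { carrier := {c | ∃ y, φ i h y = a i m * φ i h (c * x)}
        zero_mem' := ⟨0, by simp⟩
        add_mem' := fun {c c'} hc hc' => by
          obtain ⟨y, hy⟩ := hc
          obtain ⟨y', hy'⟩ := hc'
          exact ⟨y + y', by rw [map_add, hy, hy', add_mul, map_add, mul_add]⟩
        smul_mem' := fun r c hc => by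
          obtain ⟨y, hy⟩ := hc
          exact ⟨r * y, by rw [map_mul, hy, smul_eq_mul, mul_assoc, map_mul _ r]; ring⟩ }
    have hB : ⊤ ≤ B.radical := by
      rw [← ht, Ideal.span_le]
      intro g hg
      by_cases hg0 : X.basicOpen g = ⊥
      · rw [basicOpen_eq_bot_iff] at hg0
        exact hg0 ▸ zero_mem _
      obtain ⟨z, hz⟩ : ((X.basicOpen g : X.Opens) : Set X).Nonempty :=
        Set.nonempty_iff_ne_empty.mpr fun h => hg0 (Opens.ext h)
      have hηg := mem_preimage i hη ⟨z, hz⟩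
      have hloc := U.2.isLocalization_basicOpen g
      obtain ⟨y, hy⟩ : ∃ y : Γ(X, X.basicOpen g), φ i hηg y =
          a i m * φ i hηg ((X.presheaf.map (homOfLE (X.basicOpen_le g)).op).hom x) :=
        IH ⟨g, hg⟩ ((hpow U g _).le (Ideal.mem_map_of_mem _ hx)) hηg m
      obtain ⟨⟨y', ⟨_, l, rfl⟩⟩, hy'⟩ := IsLocalization.surj (Submonoid.powers g) y
      refine ⟨l, y', ?_⟩
      have h2 := congrArg (φ i hηg) hy'
      rw [map_mul, hy] at h2
      erw [φ_res i (X.basicOpen_le g) hηg, φ_res i (X.basicOpen_le g) hηg,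
        φ_res i (X.basicOpen_le g) hηg] at h2
      rw [map_mul, ← h2]
      ring
    obtain ⟨l, hl⟩ := hB (Submodule.mem_top (x := (1 : Γ(X, U.1))))
    rw [one_pow] at hl
    obtain ⟨y, hy⟩ := hl
    exact ⟨y, by rwa [one_mul] at hy⟩
  | hU U =>
    exact (Ideal.pow_le_pow_right (Finset.le_sup U.2)).trans (hk U.1)

/-- Sections landing in the translate of the divisor ideal by a coordinate. -/
noncomputable def jIdeal (D : X.IdealSheafData) (m : Fin (N + 1)) (U : X.affineOpens) :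
    Ideal Γ(X, U.1) where
  carrier := {x | ∀ h : genericPoint Z ∈ ff i ⁻¹ᵁ U.1,
    ∃ d ∈ D.ideal U, φ i h x = a i m * φ i h d}
  zero_mem' := fun h => ⟨0, zero_mem _, by simp⟩
  add_mem' := fun {x x'} hx hx' h => by
    obtain ⟨d, hd, e⟩ := hx h
    obtain ⟨d', hd', e'⟩ := hx' h
    exact ⟨d + d', add_mem hd hd', by simp [e, e', mul_add]⟩
  smul_mem' := fun c x hx h => by
    obtain ⟨d, hd, e⟩ := hx h
    exact ⟨c * d, Ideal.mul_mem_left _ _ hd, by rw [smul_eq_mul, map_mul, e, map_mul]; ring⟩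

theorem mem_jIdeal {D : X.IdealSheafData} {m : Fin (N + 1)} {U : X.affineOpens} {x : Γ(X, U.1)} :
    x ∈ jIdeal i D m U ↔
    ∀ h : genericPoint Z ∈ ff i ⁻¹ᵁ U.1, ∃ d ∈ D.ideal U, φ i h x = a i m * φ i h d := Iff.rfl

include hη in
theorem map_jIdeal (D : X.IdealSheafData) (hD : ∀ U : X.affineOpens, D.ideal U ≤ den i U)
    (m : Fin (N + 1)) (U : X.affineOpens) (g : Γ(X, U.1)) :
    (jIdeal i D m U).map (X.presheaf.map (homOfLE (X.basicOpen_le g)).op).hom =
      jIdeal i D m (X.affineBasicOpen g) := by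
  have hle := X.basicOpen_le g
  have hloc := U.2.isLocalization_basicOpen g
  refine le_antisymm (Ideal.map_le_iff_le_comap.mpr fun x hx h => ?_) fun x hx => ?_
  · obtain ⟨d, hd, e⟩ := hx (hle h)
    refine ⟨_, (D.map_ideal_basicOpen U g).le (Ideal.mem_map_of_mem _ hd), ?_⟩
    exact (φ_res i hle h x).trans (e.trans (by rw [← φ_res i hle h d]; rfl))
  by_cases h : genericPoint Z ∈ ff i ⁻¹ᵁ X.basicOpen g
  · obtain ⟨d, hd, e⟩ := hx h
    have hd2 := (D.map_ideal_basicOpen U g).ge hd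
    obtain ⟨⟨⟨d', hd'⟩, ⟨_, l, rfl⟩⟩, hdd⟩ :=
      (IsLocalization.mem_map_algebraMap_iff (Submonoid.powers g) _).mp hd2
    obtain ⟨x', hx'⟩ := hD U hd' (hle h) m
    refine (IsLocalization.mem_map_algebraMap_iff (Submonoid.powers g) _).mpr
      ⟨⟨⟨x', fun h' => ⟨d', hd', hx'⟩⟩, ⟨g ^ l, l, rfl⟩⟩, φ_injective i hη h ?_⟩
    have h2 := congrArg (φ i h) hdd
    rw [map_mul] at h2 ⊢
    erw [φ_res i hle h, φ_res i hle h] at h2 ⊢
    erw [hx', ← h2, e, mul_assoc]
    rfl
  · have : X.basicOpen g = ⊥ := by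
      by_contra hne
      exact h (mem_preimage i hη (Set.nonempty_iff_ne_empty.mpr fun h => hne (Opens.ext h)))
    have : Subsingleton Γ(X, X.basicOpen g) := by
      rw [this]
      exact CommRingCat.subsingleton_of_isTerminal X.sheaf.isTerminalOfEmpty
    rw [Subsingleton.elim x 0]
    exact zero_mem _

/-- The ideal sheaf of one coordinate. -/
noncomputable def jSheaf (D : X.IdealSheafData) (hD : ∀ U : X.affineOpens, D.ideal U ≤ den i U)
    (m : Fin (N + 1)) : X.IdealSheafData where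
  ideal := jIdeal i D m
  map_ideal_basicOpen := map_jIdeal i hη D hD m

/-- The centre. -/
noncomputable def centreIdeal (D : X.IdealSheafData)
    (hD : ∀ U : X.affineOpens, D.ideal U ≤ den i U) : X.IdealSheafData :=
  ⨆ m, jSheaf i hη D hD m

theorem centreIdeal_eq_span (D : X.IdealSheafData) (hD : ∀ U : X.affineOpens, D.ideal U ≤ den i U)
    (U : X.affineOpens) (hU : genericPoint Z ∈ ff i ⁻¹ᵁ U.1) (d : Γ(X, U.1))
    (hd : D.ideal U = Ideal.span {d}) (x : Fin (N + 1) → Γ(X, U.1))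
    (hx : ∀ m, φ i hU (x m) = a i m * φ i hU d) :
    (centreIdeal i hη D hD).ideal U = Ideal.span (Set.range x) := by
  rw [centreIdeal, Scheme.IdealSheafData.ideal_iSup, iSup_apply, Ideal.span_range_eq_iSup]
  refine iSup_congr fun m => le_antisymm (fun y hy => ?_) ((Ideal.span_singleton_le_iff_mem _).mpr ?_)
  · obtain ⟨d', hd', e⟩ := hy hU
    obtain ⟨c, rfl⟩ := Ideal.mem_span_singleton'.mp (hd.le hd')
    refine Ideal.mem_span_singleton'.mpr ⟨c, φ_injective i hη hU ?_⟩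
    rw [e, map_mul, map_mul, hx]
    ring
  · exact fun h => ⟨d, hd.ge (Ideal.mem_span_singleton_self d), hx m⟩

end Groth.Agent.ZBProjBir
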