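import Groth.Agent.ZBProjBir.Charts
import Groth.Agent.ZBProjBir.Divisor
import Groth.Agent.ZBProjBir.Ideal

/-!
# A projective birational morphism onto an integral scheme with an ample module is a blowing up
-/

set_option autoImplicit false
universe u

open CategoryTheory CategoryTheory.Limits AlgebraicGeometry TopologicalSpace

namespace Groth.Agent.ZBProjBir

theorem subsingleton_of_eq_bot {Z : Scheme.{u}} {W : Z.Opens} (h : W = ⊥) : Subsingleton Γ(Z, W) := by
  subst h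
  exact CommRingCat.subsingleton_of_isTerminal Z.sheaf.isTerminalOfEmpty

variable {X Z : Scheme.{u}} [IsIntegral Z] [IsIntegral X] {N : ℕ}
  (i : Z ⟶ CohB1.ProjSpaceOver.{u} N X) [IsClosedImmersion i]

/-- The local statement over an affine open where the divisor is principal. -/
theorem isBlowUp_over (hη : (ff i) (genericPoint Z) = genericPoint X) (D : X.IdealSheafData)
    (hD : ∀ U : X.affineOpens, D.ideal U ≤ den i U) (U : X.affineOpens)
    (hne : ((U.1 : X.Opens) : Set X).Nonempty) (d : Γ(X, U.1)) (hd : D.ideal U = Ideal.span {d})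
    (hd0 : d ≠ 0) :
    BlowUp.IsBlowUp ((ff i ∣_ U.1) ≫ U.2.isoSpec.hom)
      ((centreIdeal i hη D hD).comap U.2.fromSpec) := by
  have : Nonempty U.1 := ⟨⟨_, hne.some_mem⟩⟩
  have hU : genericPoint Z ∈ ff i ⁻¹ᵁ U.1 := mem_preimage i hη hne
  have hx : ∀ m, ∃ y : Γ(X, U.1), φ i hU y = a i m * φ i hU d := fun m =>
    hD U (hd.ge (Ideal.mem_span_singleton_self d)) hU m
  choose x hx using hx
  let I := (centreIdeal i hη D hD).ideal U
  have hspan : I = Ideal.span (Set.range x) := centreIdeal_eq_span i hη D hD U hU d hd x hx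
  rw [BlowUpLib.comap_fromSpec]
  set W : Z.Opens := ff i ⁻¹ᵁ U.1 with hW
  set b := (ff i ∣_ U.1) ≫ U.2.isoSpec.hom with hb
  let s : ∀ j, Γ(X, U.1) →+* Γ(Z, V i U.1 j) := fun j =>
    ((ff i).appLE U.1 (V i U.1 j) inf_le_right).hom
  have hVW : ∀ j, V i U.1 j ≤ W.ι.opensRange := fun j => by
    rw [Scheme.Opens.opensRange_ι]; exact inf_le_right
  let E : ∀ j, Γ(Z, V i U.1 j) →+* Γ(W.toScheme, W.ι ⁻¹ᵁ V i U.1 j) := fun j =>
    (W.ι.app (V i U.1 j)).hom
  have hE : ∀ j, Function.Bijective (E j) := fun j =>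
    have := W.ι.isIso_app (V i U.1 j) (hVW j)
    ConcreteCategory.bijective_of_isIso (W.ι.app (V i U.1 j))
  have hVaff : ∀ j, IsAffineOpen (W.ι ⁻¹ᵁ V i U.1 j) := fun j =>
    (V_affine_and_generated i U.2 j).1.preimage_of_isOpenImmersion W.ι (hVW j)
  have hstr : ∀ j, BlowUpLib.strHom b (W.ι ⁻¹ᵁ V i U.1 j) = (E j).comp (s j) := by
    intro j
    have h1 : Spec.map (CommRingCat.ofHom (BlowUpLib.strHom b (W.ι ⁻¹ᵁ V i U.1 j))) ≫ U.2.fromSpec =
        Spec.map ((ff i).appLE U.1 (V i U.1 j) inf_le_right ≫ W.ι.app (V i U.1 j)) ≫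
          U.2.fromSpec := by
      erw [BlowUpLib.SpecMap_strHom b ⟨_, hVaff j⟩]
      rw [Scheme.Hom.app_eq_appLE, Scheme.Hom.appLE_comp_appLE,
        IsAffineOpen.SpecMap_appLE_fromSpec (W.ι ≫ ff i) U.2 (hVaff j), Category.assoc, hb,
        Category.assoc, IsAffineOpen.isoSpec_hom_fromSpec, morphismRestrict_ι]
    rw [cancel_mono] at h1
    exact congrArg CommRingCat.Hom.hom (Spec.map_injective h1)
  have hsub : ∀ j, genericPoint Z ∉ V i U.1 j → Subsingleton Γ(Z, V i U.1 j) := fun j h =>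
    subsingleton_of_eq_bot (by_contra fun hne => h (genericPoint_mem hne))
  have hev : ∀ j (h : genericPoint Z ∈ V i U.1 j) r, ev h (s j r) = φ i hU r := fun j h r =>
    ev_appLE i inf_le_right h r
  have hts : ∀ j m, t i U.1 j m * s j (x j) = s j (x m) := by
    intro j m
    by_cases h : genericPoint Z ∈ V i U.1 j
    · refine ev_injective h ?_
      rw [map_mul, hev, hev, hx, hx, ev_t i h, ← mul_assoc, ev_τ_mul_a i h.1]
    · exact (hsub j h).elim _ _
  have hnz : ∀ j, s j (x j) ∈ nonZeroDivisors Γ(Z, V i U.1 j) := by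
    intro j
    by_cases h : genericPoint Z ∈ V i U.1 j
    · refine mem_nonZeroDivisors_iff_right.mpr fun q hq => ev_injective h ?_
      have := congrArg (ev h) hq
      rw [map_mul, hev, hx, map_zero] at this
      rw [map_zero]
      refine (mul_eq_zero.mp this).resolve_right (mul_ne_zero (a_ne_zero i h.1) ?_)
      exact fun h0 => hd0 (φ_injective i hη hU (h0.trans (map_zero _).symm))
    · exact mem_nonZeroDivisors_iff_right.mpr fun q _ => (hsub j h).elim _ _
  refine isBlowUp_of_charts I (fun j => ⟨x j, hspan.ge (Ideal.subset_span ⟨j, rfl⟩)⟩) b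
    (fun j => W.ι ⁻¹ᵁ V i U.1 j) hVaff ?_ hspan.symm (fun j hj => ?_) (fun j => ?_) (fun j => ?_)
    (fun j => ?_) (fun j l q hq => ?_) (fun j hj => ?_)
  · rw [← Scheme.Hom.preimage_iSup]
    refine top_le_iff.mp fun w _ => ?_
    have hw : (rr i) w.1 ∈ ⨆ j, ZBProjBir.D.{u} N j := by rw [iSup_D]; trivial
    obtain ⟨j, hj⟩ := Opens.mem_iSup.mp hw
    exact Opens.mem_iSup.mpr ⟨j, hj, w.2⟩
  · rw [hstr]
    have h : genericPoint Z ∈ V i U.1 j := by
      by_contra hne
      refine hj (Opens.ext (Set.eq_empty_iff_forall_notMem.mpr fun w hw => hne ?_))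
      exact genericPoint_mem (fun hb => by
        have : w.1 ∈ (⊥ : Z.Opens) := hb ▸ hw
        exact this)
    exact (hE j).1.comp fun r r' hr => φ_injective i hη hU (by rw [← hev j h, ← hev j h, hr])
  · rw [hstr]
    exact ModPairLib.mem_nonZeroDivisors_map (E j) (hE j) (hnz j)
  · rw [hstr]
    refine Ideal.map_le_iff_le_comap.mpr (hspan.le.trans (Ideal.span_le.mpr ?_))
    rintro _ ⟨m, rfl⟩
    exact Ideal.mem_span_singleton'.mpr ⟨E j (t i U.1 j m), by
      rw [RingHom.comp_apply, RingHom.comp_apply, ← map_mul, hts]⟩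
  · rw [hstr]
    refine eq_top_iff.mpr fun q _ => ?_
    obtain ⟨q, rfl⟩ := (hE j).2 q
    refine Subring.mem_comap.mp (SetLike.le_def.mp
      ((V_affine_and_generated i U.2 j).2.ge.trans (Subring.closure_le.mpr ?_)) (Subring.mem_top q))
    rintro _ (⟨r, rfl⟩ | ⟨m, rfl⟩)
    · exact Subring.subset_closure (Or.inl ⟨r, rfl⟩)
    · refine Subring.subset_closure (Or.inr ⟨m, ?_⟩)
      rw [RingHom.comp_apply, RingHom.comp_apply, ← map_mul, hts]
  · rw [hstr, RingHom.comp_apply, RingHom.comp_apply] at hq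
    have hqe : q = E j (t i U.1 j l) := by
      refine (mul_cancel_right_mem_nonZeroDivisors
        (ModPairLib.mem_nonZeroDivisors_map (E j) (hE j) (hnz j))).mp ?_
      rw [hq, ← map_mul, hts]
    subst hqe
    show W.toScheme.basicOpen ((W.ι.app (V i U.1 j)).hom (t i U.1 j l)) ≤ _
    erw [← Scheme.preimage_basicOpen]
    intro w hw
    have hw' : (W.ι w : Z) ∈ Z.basicOpen (t i U.1 j l) := hw
    replace hw' := (Scheme.basicOpen_res Z (τ i j l)
      (homOfLE (inf_le_left : V i U.1 j ≤ rr i ⁻¹ᵁ ZBProjBir.D.{u} N j)).op).le hw'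
    rw [τ, ← Scheme.preimage_basicOpen, ← D_inf_basicOpen] at hw'
    exact ⟨hw'.2.2, hw'.1.2⟩
  · refine φ_injective i hη hU ?_
    show φ i hU (x j) = φ i hU 0
    rw [map_zero, hx, a_eq_zero i fun h => ?_, zero_mul]
    have : (⟨genericPoint Z, hU⟩ : W.toScheme) ∈ W.ι ⁻¹ᵁ V i U.1 j := ⟨h, hU⟩
    rw [hj] at this
    exact this

variable [IsNoetherian X]

theorem exists_isBlowUp (M : X.Modules) (hM : CohB1.IsAmple M) (U₀ : X.Opens)
    (hne : (U₀ : Set X).Nonempty) [IsIso (ff i ∣_ U₀)] :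
    ∃ I : X.IdealSheafData, BlowUp.IsBlowUp (ff i) I := by
  have hη := ff_genericPoint i hne
  obtain ⟨U₁, h₁, hreg⟩ := exists_regular i hne
  obtain ⟨D, hD, hsupp⟩ := exists_divisor M hM U₁ (show (ff i) (genericPoint Z) ∈ U₁ from h₁)
  obtain ⟨n, hn⟩ := exists_pow_den_all i hη D h₁ hreg hsupp
  refine ⟨centreIdeal i hη (D ^ n) hn, ?_⟩
  choose U hxU d hd hUd using hD
  refine BlowUpLib.isBlowUp_of_local (fun y => (U y).2.fromSpec) (fun y => ?_)
    (fun y => (ff i ∣_ (U y).1) ≫ (U y).2.isoSpec.hom) (fun y => (ff i ⁻¹ᵁ (U y).1).ι)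
    (fun y => ?_) fun y => ?_
  · obtain ⟨v, hv⟩ := (U y).2.range_fromSpec.ge (hxU y)
    exact ⟨y, v, hv⟩
  · refine IsPullback.of_iso (isPullback_morphismRestrict (ff i) (U y).1)
      (Iso.refl _) (U y).2.isoSpec (Iso.refl _) (Iso.refl _) ?_ ?_ ?_ ?_
    · simp
    · simp
    · simp [IsAffineOpen.isoSpec_hom_fromSpec]
    · simp
  · have : Nonempty (U y).1 := ⟨⟨y, hxU y⟩⟩
    refine isBlowUp_over i hη (D ^ n) hn (U y) ⟨y, hxU y⟩ (d y ^ n) ?_
      (pow_ne_zero n (nonZeroDivisors.ne_zero (hd y)))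
    rw [Scheme.IdealSheafData.ideal_pow, Pi.pow_apply, hUd y, Ideal.span_singleton_pow]

end Groth.Agent.ZBProjBir
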