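import Groth.Agent.BlowUpLib.Glue

/-!
# A criterion for being a blowing up in terms of charts
-/

set_option autoImplicit false
universe u

open CategoryTheory AlgebraicGeometry

namespace Groth.Agent.ZBProjBir

open BlowUpLib

variable {A : Type u} [CommRing A] (I : Ideal A) {ι : Type*} (x : ι → I)

theorem exists_mem_chart (hx : Ideal.span (Set.range fun j => (x j : A)) = I) (p : localBlowUp I) :
    ∃ j, p ∈ (chart I (x j)).opensRange := by
  classical
  obtain ⟨a, q, hq⟩ := chart_covers I p
  by_contra hne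
  push Not at hne
  refine q.2.ne_top ((Ideal.eq_top_iff_one _).mpr ?_)
  have hall : ∀ j, frac I (x j) a ∈ q.asIdeal := fun j => by
    by_contra hj
    exact hne j (hq ▸ chart_overlap I (x j) a hj)
  have key : ∀ y ∈ Ideal.span (Set.range fun j => (x j : A)),
      ∃ t ∈ q.asIdeal, t * algebraMap A (BlowUp.affineAlgebra A I (a : A)) a = algebraMap A _ y := by
    intro y hy
    induction hy using Submodule.span_induction with
    | mem y hy =>
      obtain ⟨j, rfl⟩ := hy
      exact ⟨_, hall j, frac_mul I (x j) a⟩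
    | zero => exact ⟨0, zero_mem _, by simp⟩
    | add y y' _ _ h h' =>
      obtain ⟨t, ht, e⟩ := h
      obtain ⟨t', ht', e'⟩ := h'
      exact ⟨t + t', add_mem ht ht', by rw [add_mul, e, e', map_add]⟩
    | smul r y _ h =>
      obtain ⟨t, ht, e⟩ := h
      exact ⟨algebraMap A _ r * t, q.asIdeal.mul_mem_left _ ht,
        by rw [mul_assoc, e, smul_eq_mul, map_mul]⟩
  obtain ⟨t, ht, e⟩ := key a (hx.ge a.2)
  have h1 : t = 1 := Subtype.ext ((IsLocalization.Away.algebraMap_isUnit
    (S := Localization.Away (a : A)) (a : A)).mul_right_cancel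
      ((congrArg Subtype.val e).trans (one_mul _).symm))
  exact h1 ▸ ht

/-- A scheme with affine charts which look like the charts of the blowing up is the blowing up. -/
theorem isBlowUp_of_charts [IsDomain A] {Z : Scheme.{u}} (b : Z ⟶ Spec (CommRingCat.of A))
    (V : ι → Z.Opens) (hV : ∀ j, IsAffineOpen (V j)) (hcov : ⨆ j, V j = ⊤)
    (hx : Ideal.span (Set.range fun j => (x j : A)) = I)
    (hinj : ∀ j, V j ≠ ⊥ → Function.Injective (strHom b (V j)))
    (hnzd : ∀ j, strHom b (V j) (x j) ∈ nonZeroDivisors Γ(Z, V j))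
    (hdiv : ∀ j, I.map (strHom b (V j)) ≤ Ideal.span {strHom b (V j) (x j)})
    (hgen : ∀ j, Subring.closure (Set.range (strHom b (V j)) ∪
      {t | ∃ m, t * strHom b (V j) (x j) = strHom b (V j) (x m)}) = ⊤)
    (hmax : ∀ i j (t : Γ(Z, V i)),
      t * strHom b (V i) (x i) = strHom b (V i) (x j) → Z.basicOpen t ≤ V j)
    (hemp : ∀ j, V j = ⊥ → (x j : A) = 0) :
    BlowUp.IsBlowUp b (centre I) := by
  have hspan : ∀ j, ((centre I).comap b).ideal ⟨V j, hV j⟩ =
      Ideal.span {strHom b (V j) (x j)} := fun j => by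
    rw [ideal_comap_centre]
    exact le_antisymm (hdiv j)
      ((Ideal.span_singleton_le_iff_mem _).mpr (Ideal.mem_map_of_mem _ (x j).2))
  have hmem : ∀ z : Z, ∃ j, z ∈ V j := fun z =>
    TopologicalSpace.Opens.mem_iSup.mp (hcov.ge (Set.mem_univ z))
  have hC : BlowUp.IsEffCartierIdeal ((centre I).comap b) := fun z => by
    obtain ⟨j, hj⟩ := hmem z
    exact ⟨⟨V j, hV j⟩, hj, _, hnzd j, hspan j⟩
  obtain ⟨h, hh⟩ := exists_lift I hC
  have hto : ∀ j, ∀ z ∈ V j, h z ∈ (chart I (x j)).opensRange := fun j =>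
    range_subset_chart I hC h hh (x j) ⟨V j, hV j⟩ (hspan j)
  have hfrom : ∀ j z, h z ∈ (chart I (x j)).opensRange → z ∈ V j := by
    intro j z hz
    obtain ⟨i, hi⟩ := hmem z
    obtain ⟨r, hr, hzr⟩ := (hV i).exists_basicOpen_le
      (V := h ⁻¹ᵁ (chart I (x j)).opensRange) ⟨z, hz⟩ hi
    let D : Z.affineOpens := ⟨Z.basicOpen r, (hV i).basicOpen r⟩
    have hDV : D.1 ≤ V i := Z.basicOpen_le r
    have hφ : strHom b D.1 = (Z.presheaf.map (homOfLE hDV).op).hom.comp (strHom b (V i)) := by
      rw [strHom, strHom, ← CommRingCat.hom_comp, Category.assoc, Scheme.Hom.appLE_map]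
    have hD : ((centre I).comap b).ideal D = Ideal.span {strHom b D.1 (x i)} := by
      rw [← ((centre I).comap b).map_ideal (U := D) (V := ⟨V i, hV i⟩) hDV, hspan i, Ideal.map_span,
        Set.image_singleton, hφ]
      rfl
    have hle : Set.range (D.2.fromSpec ≫ h) ⊆ Set.range (chart I (x j)) := by
      rintro _ ⟨p, rfl⟩
      exact hr (D.2.range_fromSpec.le (Set.mem_range_self p))
    obtain ⟨ψ, hψ⟩ := Spec.map_surjective (IsOpenImmersion.lift (chart I (x j)) _ hle)
    have hψφ : ψ.hom.comp (algebraMap A _) = strHom b D.1 := by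
      have : Spec.map ψ ≫ chart I (x j) ≫ toBase I =
          Spec.map (CommRingCat.ofHom (strHom b D.1)) := by
        rw [hψ, IsOpenImmersion.lift_fac_assoc, Category.assoc, hh, SpecMap_strHom]
      rw [chart_toBase, ← Spec.map_comp] at this
      exact congrArg CommRingCat.Hom.hom (Spec.map_injective this)
    have e1 : ∀ m, ψ.hom (frac I (x m) (x j)) * strHom b D.1 (x j) = strHom b D.1 (x m) := fun m => by
      have := congrArg ψ.hom (frac_mul I (x m) (x j))
      have ha : ∀ r, ψ.hom (algebraMap A _ r) = strHom b D.1 r := fun r => RingHom.congr_fun hψφ r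
      rwa [map_mul, ha, ha] at this
    have hzi := ModPairLib.generator_mem_nonZeroDivisors hC hD
    obtain ⟨t, ht⟩ := Ideal.mem_span_singleton'.mp
      (hdiv i (Ideal.mem_map_of_mem (strHom b (V i)) (x j).2))
    have ht' : (Z.presheaf.map (homOfLE hDV).op).hom t * strHom b D.1 (x i) = strHom b D.1 (x j) := by
      rw [hφ, RingHom.comp_apply, RingHom.comp_apply, ← map_mul, ht]
    have hu : IsUnit ((Z.presheaf.map (homOfLE hDV).op).hom t) := by
      refine IsUnit.of_mul_eq_one (ψ.hom (frac I (x i) (x j))) ?_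
      refine (mul_cancel_right_mem_nonZeroDivisors hzi).mp ?_
      rw [one_mul, mul_assoc, mul_comm (ψ.hom _), ← mul_assoc, ht', mul_comm, e1]
    refine hmax i j t ht ?_
    rw [Scheme.mem_basicOpen _ _ _ hi]
    have := hu.map (Z.presheaf.germ D.1 z hzr).hom
    rwa [TopCat.Presheaf.germ_res_apply] at this
  choose ψ hψ using fun j => exists_hom_affineAlgebra I (x j) (strHom b (V j)) (hnzd j) (hdiv j)
  have hψbij : ∀ j, Function.Bijective (ψ j) := by
    intro j
    have happ : ∀ r : A, ψ j (algebraMap A _ r) = strHom b (V j) r := fun r =>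
      RingHom.congr_fun (hψ j) r
    refine ⟨?_, fun s => ?_⟩
    · rw [injective_iff_map_eq_zero]
      intro q hq
      obtain ⟨n, a, hqa⟩ := IsLocalization.Away.surj (x j : A) (q : Localization.Away (x j : A))
      have hqa' : q * algebraMap A _ ((x j : A) ^ n) = algebraMap A _ a :=
        Subtype.ext (by simpa [map_pow] using hqa)
      apply Subtype.ext
      by_cases hb : V j = ⊥
      · have h0 := hemp j hb
        have hu := IsLocalization.Away.algebraMap_isUnit (S := Localization.Away (x j : A)) (x j : A)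
        have he : algebraMap A (Localization.Away (x j : A)) (x j : A) = 0 := by
          simp only [h0, map_zero]
        rw [he] at hu
        exact eq_of_zero_eq_one (isUnit_zero_iff.mp hu) _ _
      have h0 := congrArg (ψ j) hqa'
      rw [map_mul, hq, zero_mul, happ] at h0
      have ha : a = 0 := hinj j hb (h0.symm.trans (map_zero _).symm)
      rw [ha, map_zero] at hqa
      exact ((IsLocalization.Away.algebraMap_isUnit (S := Localization.Away (x j : A))
        (x j : A)).pow n).mul_left_eq_zero.mp hqa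
    · refine (Subring.closure_le (t := (ψ j).range)).mpr ?_ ((hgen j).ge (Subring.mem_top s))
      rintro t (⟨r, rfl⟩ | ⟨m, hm⟩)
      · exact ⟨_, happ r⟩
      · refine ⟨frac I (x m) (x j), (mul_cancel_right_mem_nonZeroDivisors (hnzd j)).mp ?_⟩
        rw [hm, ← happ, ← happ, ← map_mul, frac_mul]
  let O : ι → (localBlowUp I).Opens := fun j => (chart I (x j)).opensRange
  have hOc : ⨆ j, O j = ⊤ :=
    top_le_iff.mp fun p _ => TopologicalSpace.Opens.mem_iSup.mpr (exists_mem_chart I x hx p)
  have : IsIso h := by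
    rw [← MorphismProperty.isomorphisms.iff, IsZariskiLocalAtTarget.iff_of_iSup_eq_top
      (P := MorphismProperty.isomorphisms Scheme) O hOc]
    intro j
    have heq : h ⁻¹ᵁ O j = V j :=
      TopologicalSpace.Opens.ext (Set.ext fun z => ⟨hfrom j z, hto j z⟩)
    have hchart : (V j).ι ≫ h =
        (hV j).isoSpec.hom ≫ Spec.map (CommRingCat.ofHom (ψ j)) ≫ chart I (x j) := by
      refine unique_lift I (g := (V j).ι ≫ b) ?_ _ _ (by rw [Category.assoc, hh]) ?_
      · rw [Scheme.IdealSheafData.comap_comp]; exact isEffCartier_comap_flat _ hC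
      · simp only [Category.assoc]
        rw [chart_toBase, ← Spec.map_comp, ← CommRingCat.ofHom_comp, hψ,
          SpecMap_strHom b ⟨V j, hV j⟩, IsAffineOpen.isoSpec_hom_fromSpec_assoc]
    have : IsIso (CommRingCat.ofHom (ψ j)) :=
      (ConcreteCategory.isIso_iff_bijective _).mpr (hψbij j)
    have h2 : h.resLE (O j) (V j) heq.ge =
        (hV j).isoSpec.hom ≫ Spec.map (CommRingCat.ofHom (ψ j)) ≫
          (chart I (x j)).isoOpensRange.hom := by
      rw [← cancel_mono (O j).ι, Scheme.Hom.resLE_comp_ι, hchart, Category.assoc, Category.assoc,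
        Scheme.Hom.isoOpensRange_hom_ι]
    show IsIso (h ∣_ O j)
    have h3 : h ∣_ O j = (Z.isoOfEq heq).hom ≫ h.resLE (O j) (V j) heq.ge := by
      rw [← cancel_mono (O j).ι, morphismRestrict_ι, Category.assoc, Scheme.Hom.resLE_comp_ι,
        Scheme.isoOfEq_hom_ι_assoc]
    rw [h3, h2]
    infer_instance
  rw [← hh]
  exact isBlowUp_iso_comp h (isBlowUp_local I)

end Groth.Agent.ZBProjBir
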