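import Groth.Agent.ZBProjBir.Generate
import Mathlib.AlgebraicGeometry.FunctionField

/-!
# Ratios of coordinates in the function field of a birational closed subscheme of projective space
-/

set_option autoImplicit false
universe u

open CategoryTheory CategoryTheory.Limits AlgebraicGeometry TopologicalSpace

namespace Groth.Agent.ZBProjBir

variable {X Z : Scheme.{u}} [IsIntegral Z] {N : ℕ} (i : Z ⟶ CohB1.ProjSpaceOver.{u} N X)

/-- Value at the generic point. -/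
noncomputable def ev {W : Z.Opens} (h : genericPoint Z ∈ W) : Γ(Z, W) →+* Z.functionField :=
  (Z.presheaf.germ W (genericPoint Z) h).hom

theorem ev_res {W W' : Z.Opens} (hle : W' ≤ W) (h : genericPoint Z ∈ W') (s : Γ(Z, W)) :
    ev h ((Z.presheaf.map (homOfLE hle).op).hom s) = ev (hle h) s :=
  TopCat.Presheaf.germ_res_apply _ _ _ _ _

theorem ev_injective {W : Z.Opens} (h : genericPoint Z ∈ W) :
    Function.Injective (ev h) := by
  have : Nonempty W := ⟨⟨_, h⟩⟩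
  exact germ_injective_of_isIntegral Z (genericPoint Z) h

theorem genericPoint_mem {W : Z.Opens} (h : W ≠ ⊥) : genericPoint Z ∈ W := by
  obtain ⟨z, hz⟩ : ∃ z, z ∈ W := by
    by_contra hne
    push Not at hne
    exact h (Opens.ext (Set.eq_empty_iff_forall_notMem.mpr hne))
  exact (genericPoint_spec Z).specializes trivial |>.mem_open W.2 hz

/-- The generic value of a section of the base. -/
noncomputable def φ {U : X.Opens} (h : genericPoint Z ∈ ff i ⁻¹ᵁ U) :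
    Γ(X, U) →+* Z.functionField :=
  (ev h).comp ((ff i).app U).hom

theorem φ_res {U U' : X.Opens} (hle : U' ≤ U) (h : genericPoint Z ∈ ff i ⁻¹ᵁ U') (s : Γ(X, U)) :
    φ i h ((X.presheaf.map (homOfLE hle).op).hom s) = φ i (hle h) s := by
  show ev h ((X.presheaf.map (homOfLE hle).op ≫ (ff i).app U').hom s) = _
  rw [(ff i).naturality, CommRingCat.hom_comp, RingHom.comp_apply]
  exact TopCat.Presheaf.germ_res_apply _ _ _ _ _

theorem ev_appLE {U : X.Opens} {W : Z.Opens} (hle : W ≤ ff i ⁻¹ᵁ U) (h : genericPoint Z ∈ W)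
    (s : Γ(X, U)) : ev h (((ff i).appLE U W hle).hom s) = φ i (hle h) s := by
  rw [Scheme.Hom.appLE, CommRingCat.hom_comp, RingHom.comp_apply]
  exact ev_res hle h _

/-- The ratio on the whole chart. -/
noncomputable def τ (j m : Fin (N + 1)) : Γ(Z, rr i ⁻¹ᵁ D.{u} N j) :=
  ((rr i).app (D.{u} N j)).hom (T.{u} N j m)

theorem t_eq (U : X.Opens) (j m : Fin (N + 1)) :
    t i U j m = (Z.presheaf.map (homOfLE (inf_le_left : V i U j ≤ rr i ⁻¹ᵁ D.{u} N j)).op).hom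
      (τ i j m) := rfl

theorem ev_t {U : X.Opens} {j m : Fin (N + 1)} (h : genericPoint Z ∈ V i U j) :
    ev h (t i U j m) = ev h.1 (τ i j m) :=
  ev_res inf_le_left h _

theorem exists_mem_D : ∃ j : Fin (N + 1), genericPoint Z ∈ rr i ⁻¹ᵁ D.{u} N j := by
  have : genericPoint Z ∈ rr i ⁻¹ᵁ (⨆ j, D.{u} N j) := by rw [iSup_D]; trivial
  rw [Scheme.Hom.preimage_iSup] at this
  exact Opens.mem_iSup.mp this

/-- The affine coordinates of the generic point. -/
noncomputable def a (m : Fin (N + 1)) : Z.functionField :=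
  ev (exists_mem_D i).choose_spec (τ i (exists_mem_D i).choose m)

theorem ev_τ_mul_a {j : Fin (N + 1)} (hj : genericPoint Z ∈ rr i ⁻¹ᵁ D.{u} N j) (m : Fin (N + 1)) :
    ev hj (τ i j m) * a i j = a i m := by
  set j₀ := (exists_mem_D i).choose
  have hj₀ : genericPoint Z ∈ rr i ⁻¹ᵁ D.{u} N j₀ := (exists_mem_D i).choose_spec
  have h : genericPoint Z ∈ rr i ⁻¹ᵁ (D.{u} N j₀ ⊓ D.{u} N j) := ⟨hj₀, hj⟩
  have key : ∀ (l : Fin (N + 1)) (hle : D.{u} N j₀ ⊓ D.{u} N j ≤ D.{u} N l) (n : Fin (N + 1)),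
      ev h (((rr i).app (D.{u} N j₀ ⊓ D.{u} N j)).hom
        (((Proj (CohB1.polyGrading N ZZ.{u})).presheaf.map (homOfLE hle).op).hom (T.{u} N l n))) =
      ev (hle h : genericPoint Z ∈ rr i ⁻¹ᵁ D.{u} N l) (τ i l n) := by
    intro l hle n
    rw [← RingHom.comp_apply ((rr i).app _).hom, ← CommRingCat.hom_comp, (rr i).naturality,
      CommRingCat.hom_comp, RingHom.comp_apply]
    exact TopCat.Presheaf.germ_res_apply _ _ _ _ _
  have := congrArg (fun s => ev h (((rr i).app (D.{u} N j₀ ⊓ D.{u} N j)).hom s))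
    (T_cocycle.{u} N j₀ j m)
  simp only [map_mul] at this
  erw [key j₀ inf_le_left j, key j inf_le_right m, key j₀ inf_le_left m] at this
  rw [mul_comm]
  exact this

theorem a_ne_zero {j : Fin (N + 1)} (hj : genericPoint Z ∈ rr i ⁻¹ᵁ D.{u} N j) : a i j ≠ 0 := by
  intro h0
  have h1 := ev_τ_mul_a i hj (exists_mem_D i).choose
  rw [h0, mul_zero] at h1
  have h2 : a i (exists_mem_D i).choose = 1 := by
    rw [a, τ, T_self, map_one, map_one]
  exact zero_ne_one (h1.trans h2)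

theorem a_eq_zero {j : Fin (N + 1)} (hj : genericPoint Z ∉ rr i ⁻¹ᵁ D.{u} N j) : a i j = 0 := by
  by_contra hne
  set j₀ := (exists_mem_D i).choose
  have h : genericPoint Z ∈ Z.basicOpen (τ i j₀ j) :=
    (Z.mem_basicOpen (τ i j₀ j) _ (exists_mem_D i).choose_spec).mpr (isUnit_iff_ne_zero.mpr hne)
  rw [τ, ← Scheme.preimage_basicOpen, ← D_inf_basicOpen] at h
  exact hj h.2

variable [IsIntegral X]

theorem ff_genericPoint {U₀ : X.Opens} (hne : (U₀ : Set X).Nonempty) [IsIso (ff i ∣_ U₀)] :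
    (ff i) (genericPoint Z) = genericPoint X := by
  have hgen : genericPoint X ∈ U₀ := by
    obtain ⟨x, hx⟩ := hne
    exact (genericPoint_spec X).specializes trivial |>.mem_open U₀.2 hx
  obtain ⟨z, hz⟩ := (ff i ∣_ U₀).homeomorph.surjective ⟨genericPoint X, hgen⟩
  have hz' : (ff i) z.1 = genericPoint X := (morphismRestrict_base_coe (ff i) U₀ z).symm.trans
    (congrArg Subtype.val hz)
  refine (((genericPoint_spec X).specializes trivial).antisymm ?_).eq.symm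
  rw [← hz']
  exact ((genericPoint_spec Z).specializes trivial).map (ff i).continuous

theorem φ_injective (hη : (ff i) (genericPoint Z) = genericPoint X) {U : X.Opens}
    (h : genericPoint Z ∈ ff i ⁻¹ᵁ U) : Function.Injective (φ i h) := by
  refine (injective_iff_map_eq_zero _).mpr fun s hs => ?_
  have h0 : (ff i).app U s = 0 := ev_injective h (hs.trans (map_zero _).symm)
  refine (basicOpen_eq_bot_iff s).mp ?_
  by_contra hne
  obtain ⟨x, hx⟩ : ∃ x, x ∈ X.basicOpen s := by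
    by_contra hx
    push Not at hx
    exact hne (Opens.ext (Set.eq_empty_iff_forall_notMem.mpr hx))
  have : genericPoint Z ∈ ff i ⁻¹ᵁ X.basicOpen s := by
    show (ff i) (genericPoint Z) ∈ X.basicOpen s
    rw [hη]
    exact (genericPoint_spec X).specializes trivial |>.mem_open (X.basicOpen s).2 hx
  rw [Scheme.preimage_basicOpen, h0, Scheme.basicOpen_zero] at this
  exact this

theorem mem_preimage (hη : (ff i) (genericPoint Z) = genericPoint X) {U : X.Opens}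
    (hU : (U : Set X).Nonempty) : genericPoint Z ∈ ff i ⁻¹ᵁ U := by
  obtain ⟨x, hx⟩ := hU
  show (ff i) (genericPoint Z) ∈ U
  rw [hη]
  exact (genericPoint_spec X).specializes trivial |>.mem_open U.2 hx

/-- The coordinates are regular on a nonempty open. -/
theorem exists_regular {U₀ : X.Opens} (hne : (U₀ : Set X).Nonempty) [IsIso (ff i ∣_ U₀)] :
    ∃ (U₁ : X.Opens) (h : genericPoint Z ∈ ff i ⁻¹ᵁ U₁),
      ∀ m, ∃ x : Γ(X, U₁), φ i h x = a i m := by
  set j₀ := (exists_mem_D i).choose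
  have hj₀ : genericPoint Z ∈ rr i ⁻¹ᵁ D.{u} N j₀ := (exists_mem_D i).choose_spec
  let U₁ : X.Opens := U₀.ι ''ᵁ (inv (ff i ∣_ U₀) ⁻¹ᵁ ((ff i ⁻¹ᵁ U₀).ι ⁻¹ᵁ (rr i ⁻¹ᵁ D.{u} N j₀)))
  have h₁₀ : U₁ ≤ U₀ := U₀.ι_image_le _
  have hsub : ff i ⁻¹ᵁ U₁ ≤ rr i ⁻¹ᵁ D.{u} N j₀ := by
    intro z hz
    have hz0 : z ∈ ff i ⁻¹ᵁ U₁ := hz
    obtain ⟨w, hw, hwz⟩ := hz
    have e : w = (ff i ∣_ U₀) ⟨z, h₁₀ hz0⟩ := Subtype.ext
      (hwz.trans (morphismRestrict_base_coe (ff i) U₀ ⟨z, h₁₀ hz0⟩).symm)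
    subst e
    have hw' : (ff i ⁻¹ᵁ U₀).ι (inv (ff i ∣_ U₀) ((ff i ∣_ U₀) ⟨z, h₁₀ hz0⟩)) ∈
      rr i ⁻¹ᵁ D.{u} N j₀ := hw
    rwa [← Scheme.Hom.comp_apply (ff i ∣_ U₀), IsIso.hom_inv_id] at hw'
  have hη₀ : genericPoint Z ∈ ff i ⁻¹ᵁ U₀ := by
    obtain ⟨x, hx⟩ := hne
    exact mem_preimage i (ff_genericPoint i ⟨x, hx⟩) ⟨x, hx⟩
  have hη₁ : genericPoint Z ∈ ff i ⁻¹ᵁ U₁ := by
    refine ⟨(ff i ∣_ U₀) ⟨_, hη₀⟩, ?_, morphismRestrict_base_coe (ff i) U₀ ⟨_, hη₀⟩⟩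
    show (ff i ⁻¹ᵁ U₀).ι (inv (ff i ∣_ U₀) ((ff i ∣_ U₀) ⟨_, hη₀⟩)) ∈ rr i ⁻¹ᵁ D.{u} N j₀
    rw [← Scheme.Hom.comp_apply (ff i ∣_ U₀), IsIso.hom_inv_id]
    exact hj₀
  have : IsIso (ff i ∣_ U₀ ∣_ U₀.ι ⁻¹ᵁ U₁) := inferInstance
  have hiso : IsIso (ff i ∣_ U₁) := by
    have e : U₀.ι ''ᵁ (U₀.ι ⁻¹ᵁ U₁) = U₁ := by
      rw [Scheme.Hom.image_preimage_eq_opensRange_inf, Scheme.Opens.opensRange_ι]
      exact inf_eq_right.mpr h₁₀
    have := this
    rw [← MorphismProperty.isomorphisms.iff,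
      (MorphismProperty.isomorphisms Scheme).arrow_mk_iso_iff
        (morphismRestrictRestrict (ff i) U₀ (U₀.ι ⁻¹ᵁ U₁) ≪≫
          morphismRestrictEq (ff i) e)] at this
    exact this
  have happ : IsIso ((ff i).app U₁) := by
    have h2 : IsIso ((ff i ∣_ U₁).app ⊤) := inferInstance
    rw [morphismRestrict_app] at h2
    have h3 : IsIso ((ff i).app (U₁.ι ''ᵁ ⊤)) :=
      @IsIso.of_isIso_comp_right _ _ _ _ _ _ _
        (Z.presheaf.mapIso (eqToIso (image_morphismRestrict_preimage (ff i) U₁ ⊤)).op).isIso_hom h2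
    have key : ∀ W : X.Opens, W = U₁ → IsIso ((ff i).app W) → IsIso ((ff i).app U₁) := by
      rintro W rfl hW
      exact hW
    exact key _ U₁.ι_image_top h3
  refine ⟨U₁, hη₁, fun m => ?_⟩
  obtain ⟨x, hx⟩ := ((ConcreteCategory.isIso_iff_bijective ((ff i).app U₁)).mp happ).2
    ((Z.presheaf.map (homOfLE hsub).op).hom (τ i j₀ m))
  exact ⟨x, (congrArg (ev hη₁) hx).trans (ev_res hsub hη₁ _)⟩

end Groth.Agent.ZBProjBir
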