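import Groth.Agent.ZBProjBir.Proj
import Mathlib.AlgebraicGeometry.Morphisms.Flat
import Mathlib.AlgebraicGeometry.Morphisms.ClosedImmersion

/-!
# Sections over the charts of a closed subscheme of relative projective space
-/

set_option autoImplicit false
universe u

open CategoryTheory CategoryTheory.Limits AlgebraicGeometry TopologicalSpace

namespace Groth.Agent.ZBProjBir

theorem closure_of_isPushout {A B C D : CommRingCat.{u}} {f : A ⟶ B} {g : A ⟶ C} {inl : B ⟶ D}
    {inr : C ⟶ D} (h : IsPushout f g inl inr) :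
    Subring.closure (Set.range inl.hom ∪ Set.range inr.hom) = ⊤ := by
  set S := Subring.closure (Set.range inl.hom ∪ Set.range inr.hom)
  refine eq_top_iff.mpr fun x _ => ?_
  let jl : B ⟶ CommRingCat.of S := CommRingCat.ofHom (inl.hom.codRestrict S fun b =>
    Subring.subset_closure (Or.inl ⟨b, rfl⟩))
  let jr : C ⟶ CommRingCat.of S := CommRingCat.ofHom (inr.hom.codRestrict S fun c =>
    Subring.subset_closure (Or.inr ⟨c, rfl⟩))
  let p : D ⟶ CommRingCat.of S := h.desc jl jr (by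
    ext a
    exact DFunLike.congr_fun (congrArg CommRingCat.Hom.hom h.w) a)
  have hp : p ≫ CommRingCat.ofHom S.subtype = 𝟙 D := by
    apply h.hom_ext
    · rw [← Category.assoc, h.inl_desc, Category.comp_id]
      rfl
    · rw [← Category.assoc, h.inr_desc, Category.comp_id]
      rfl
  have : ((p.hom x : S) : D) = x := DFunLike.congr_fun (congrArg CommRingCat.Hom.hom hp) x
  exact this ▸ (p.hom x).2

variable {X Z : Scheme.{u}} {N : ℕ} (i : Z ⟶ CohB1.ProjSpaceOver.{u} N X)

/-- The map to projective space over the integers. -/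
noncomputable def rr : Z ⟶ Proj (CohB1.polyGrading N ZZ.{u}) :=
  i ≫ pullback.fst (CohB1.ProjSpace.toSpec N ZZ.{u}) (specULiftZIsTerminal.from X)

/-- The map to the base. -/
noncomputable def ff : Z ⟶ X :=
  i ≫ pullback.snd (CohB1.ProjSpace.toSpec N ZZ.{u}) (specULiftZIsTerminal.from X)

/-- The chart of `Z` over `U`. -/
noncomputable def V (U : X.Opens) (j : Fin (N + 1)) : Z.Opens :=
  rr i ⁻¹ᵁ D.{u} N j ⊓ ff i ⁻¹ᵁ U

/-- The ratio `T_m / T_j` on a chart of `Z`. -/
noncomputable def t (U : X.Opens) (j m : Fin (N + 1)) : Γ(Z, V i U j) :=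
  ((rr i).appLE (D.{u} N j) (V i U j) inf_le_left).hom (T.{u} N j m)

theorem V_affine_and_generated [IsClosedImmersion i] {U : X.Opens} (hU : IsAffineOpen U)
    (j : Fin (N + 1)) :
    IsAffineOpen (V i U j) ∧
      Subring.closure (Set.range ((ff i).appLE U (V i U j) inf_le_right).hom ∪
        Set.range (t i U j)) = ⊤ := by
  let p := pullback.fst (CohB1.ProjSpace.toSpec N ZZ.{u}) (specULiftZIsTerminal.from X)
  let q := pullback.snd (CohB1.ProjSpace.toSpec N ZZ.{u}) (specULiftZIsTerminal.from X)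
  let W : (CohB1.ProjSpaceOver.{u} N X).Opens := p ⁻¹ᵁ D.{u} N j ⊓ q ⁻¹ᵁ U
  have H : IsPullback p q (CohB1.ProjSpace.toSpec N ZZ.{u}) (specULiftZIsTerminal.from X) :=
    IsPullback.of_hasPullback _ _
  have hS := isAffineOpen_top (Spec (CommRingCat.of ZZ.{u}))
  have h1 : U ≤ specULiftZIsTerminal.from X ⁻¹ᵁ ⊤ := le_top
  have h2 : D.{u} N j ≤ CohB1.ProjSpace.toSpec N ZZ.{u} ⁻¹ᵁ ⊤ := le_top
  have hW : IsAffineOpen W := by
    have : IsAffine _ := hS
    have : IsAffine _ := hU
    have : IsAffine (Scheme.Opens.toScheme (X := CohB1.ProjSpace.{u} N ZZ.{u}) (D.{u} N j)) :=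
      isAffineOpen_D N j
    exact .of_isIso (Scheme.Hom.isPullback_resLE H h1 h2 (UY := W) rfl).isoPullback.hom
  have hP := (isIso_pushoutSection_iff H h1 h2 (UY := W) rfl).mp
    (isIso_pushoutSection_of_isAffineOpen H h1 h2 rfl hS hU (isAffineOpen_D N j))
  have hgen := closure_of_isPushout hP
  have hVW : V i U j = i ⁻¹ᵁ W := rfl
  refine ⟨hVW ▸ hW.preimage i, eq_top_iff.mpr fun s _ => ?_⟩
  obtain ⟨w, hw⟩ : ∃ w, (i.appLE W (V i U j) hVW.le).hom w = s := by
    obtain ⟨w, hw⟩ := Scheme.Hom.app_surjective i W hW s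
    refine ⟨w, ?_⟩
    rw [Scheme.Hom.app_eq_appLE] at hw
    exact hw
  subst hw
  set S := Subring.closure (Set.range ((ff i).appLE U (V i U j) inf_le_right).hom ∪
    Set.range (t i U j))
  suffices h : (⊤ : Subring Γ(CohB1.ProjSpaceOver.{u} N X, W)) ≤ S.comap (i.appLE W (V i U j) hVW.le).hom from
    h (Subring.mem_top w)
  refine hgen.ge.trans (Subring.closure_le.mpr ?_)
  have e1 : p.appLE (D.{u} N j) W inf_le_left ≫ i.appLE W (V i U j) hVW.le =
      (rr i).appLE (D.{u} N j) (V i U j) inf_le_left :=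
    Scheme.Hom.appLE_comp_appLE _ _ _ _ _ _ _
  have e2 : q.appLE U W inf_le_right ≫ i.appLE W (V i U j) hVW.le =
      (ff i).appLE U (V i U j) inf_le_right :=
    Scheme.Hom.appLE_comp_appLE _ _ _ _ _ _ _
  rintro _ (⟨a, rfl⟩ | ⟨b, rfl⟩)
  · suffices h : (⊤ : Subring Γ(Proj (CohB1.polyGrading N ZZ.{u}), D.{u} N j)) ≤
        S.comap ((rr i).appLE (D.{u} N j) (V i U j) inf_le_left).hom by
      show (i.appLE W (V i U j) hVW.le).hom ((p.appLE (D.{u} N j) W inf_le_left).hom a) ∈ S
      exact (DFunLike.congr_fun (congrArg CommRingCat.Hom.hom e1) a).symm ▸ h (Subring.mem_top a)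
    rw [← closure_T, Subring.closure_le]
    rintro _ ⟨m, rfl⟩
    exact Subring.subset_closure (Or.inr ⟨m, rfl⟩)
  · exact Subring.subset_closure
      (Or.inl ⟨b, (DFunLike.congr_fun (congrArg CommRingCat.Hom.hom e2) b).symm⟩)

end Groth.Agent.ZBProjBir
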