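import Groth.Agent.H23.PnLine
import Groth.Prelude.Def_CohB1

/-!
# The standard charts of projective space over the integers
-/

set_option autoImplicit false
universe u

open CategoryTheory CategoryTheory.Limits AlgebraicGeometry TopologicalSpace HomogeneousLocalization

namespace Groth.Agent.ZBProjBir

/-- The integers in the universe. -/
abbrev ZZ : Type u := ULift.{u} ℤ

variable (N : ℕ)

local notation "𝒢" => CohB1.polyGrading N ZZ

theorem X_mem (j : Fin (N + 1)) :
    (MvPolynomial.X j : MvPolynomial (Fin (N + 1)) ZZ.{u}) ∈ CohB1.polyGrading N ZZ.{u} 1 :=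
  (MvPolynomial.mem_homogeneousSubmodule 1 _).mpr (MvPolynomial.isHomogeneous_X _ j)

/-- The chart `T_j ≠ 0`. -/
noncomputable abbrev D (j : Fin (N + 1)) : (Proj (CohB1.polyGrading N ZZ.{u})).Opens :=
  Proj.basicOpen (CohB1.polyGrading N ZZ.{u}) (MvPolynomial.X j)

theorem isAffineOpen_D (j : Fin (N + 1)) : IsAffineOpen (D.{u} N j) :=
  Proj.isAffineOpen_basicOpen _ _ (X_mem N j) one_pos

/-- The ratio `T_m / T_j` on its chart. -/
noncomputable def T (j m : Fin (N + 1)) : Γ((Proj (CohB1.polyGrading N ZZ.{u})), D.{u} N j) :=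
  (Proj.awayToSection (CohB1.polyGrading N ZZ.{u}) (MvPolynomial.X j)).hom
    (H23.PnLine.coord (X_mem N j) m)

theorem coord_self (j : Fin (N + 1)) : H23.PnLine.coord (X_mem.{u} N j) j = 1 :=
  H23.PnLine.mk_self (X_mem N j)

theorem T_self (j : Fin (N + 1)) : T.{u} N j j = 1 := by
  rw [T, coord_self]
  exact map_one _

theorem iSup_D : ⨆ j, D.{u} N j = ⊤ := by
  refine Proj.iSup_basicOpen_eq_top' _ _ (fun j => ⟨1, X_mem N j⟩) ?_
  rw [eq_top_iff]
  intro p hp
  clear hp
  induction p using MvPolynomial.induction_on with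
  | C r =>
    exact Subalgebra.algebraMap_mem _
      (⟨MvPolynomial.C r, (MvPolynomial.mem_homogeneousSubmodule 0 _).mpr
        (MvPolynomial.isHomogeneous_C _ r)⟩ : CohB1.polyGrading N ZZ.{u} 0)
  | add p q hp hq => exact add_mem hp hq
  | mul_X p i hp => exact mul_mem hp (Algebra.subset_adjoin ⟨i, rfl⟩)

theorem D_inf_basicOpen (j l : Fin (N + 1)) :
    D.{u} N j ⊓ D.{u} N l = (Proj (CohB1.polyGrading N ZZ.{u})).basicOpen (T.{u} N j l) := by
  let P := (Proj (CohB1.polyGrading N ZZ.{u}))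
  have h1 := Proj.awayι_preimage_basicOpen (CohB1.polyGrading N ZZ.{u}) (X_mem N j) one_pos
    (X_mem N l) one_pos
  have helt : Away.isLocalizationElem (X_mem.{u} N j) (X_mem.{u} N l) = H23.PnLine.coord (X_mem N j) l := by
    apply HomogeneousLocalization.val_injective
    simp [Away.isLocalizationElem, H23.PnLine.coord]
  rw [helt] at h1
  have hι : Proj.basicOpenToSpec (CohB1.polyGrading N ZZ.{u}) (MvPolynomial.X j) ≫
      Proj.awayι _ _ (X_mem N j) one_pos = (D.{u} N j).ι := by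
    rw [Proj.awayι, ← Proj.basicOpenIsoSpec_hom _ _ (X_mem N j) one_pos, Iso.hom_inv_id_assoc]
  have h2 : (D.{u} N j).ι ⁻¹ᵁ D.{u} N l = (D.{u} N j).ι ⁻¹ᵁ P.basicOpen (T.{u} N j l) := by
    rw [← hι, Scheme.Hom.comp_preimage, h1, hι, Proj.basicOpenToSpec, Scheme.Hom.comp_preimage,
      Scheme.Opens.toSpecΓ, Scheme.Hom.comp_preimage]
    show (Scheme.toSpecΓ _) ⁻¹ᵁ PrimeSpectrum.basicOpen
      ((Proj.basicOpen (CohB1.polyGrading N ZZ.{u}) (MvPolynomial.X j)).topIso.inv.hom (T.{u} N j l)) = _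
    erw [Scheme.toSpecΓ_preimage_basicOpen]
    rw [Scheme.Opens.topIso_inv, Scheme.preimage_basicOpen]
    have hO : (⊤ : (D.{u} N j).toScheme.Opens) = (D.{u} N j).ι ⁻¹ᵁ D.{u} N j :=
      (Scheme.Opens.ι_preimage_self _).symm
    refine ((Scheme.basicOpen_res_eq _ _ (eqToHom hO).op).symm.trans ?_).symm
    congr 1
  have h3 := congrArg (fun O => (D.{u} N j).ι ''ᵁ O) h2
  simp only [Scheme.Hom.image_preimage_eq_opensRange_inf, Scheme.Opens.opensRange_ι] at h3
  exact h3.trans (inf_eq_right.mpr (P.basicOpen_le _))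

/-- The cocycle identity on an overlap. -/
theorem T_cocycle (j l m : Fin (N + 1)) :
    (Proj (CohB1.polyGrading N ZZ.{u})).presheaf.map
        (homOfLE (inf_le_left : D.{u} N j ⊓ D.{u} N l ≤ D.{u} N j)).op (T.{u} N j l) *
      (Proj (CohB1.polyGrading N ZZ.{u})).presheaf.map
        (homOfLE (inf_le_right : D.{u} N j ⊓ D.{u} N l ≤ D.{u} N l)).op (T.{u} N l m) =
      (Proj (CohB1.polyGrading N ZZ.{u})).presheaf.map
        (homOfLE (inf_le_left : D.{u} N j ⊓ D.{u} N l ≤ D.{u} N j)).op (T.{u} N j m) := by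
  let P := (Proj (CohB1.polyGrading N ZZ.{u}))
  let X' : Fin (N + 1) → MvPolynomial (Fin (N + 1)) ZZ.{u} := MvPolynomial.X
  let e : D.{u} N j ⊓ D.{u} N l =
      Proj.basicOpen (CohB1.polyGrading N ZZ.{u}) (X' j * X' l) := (Proj.basicOpen_mul _ _ _).symm
  have hjl : ∀ a, P.presheaf.map (homOfLE (inf_le_left : D.{u} N j ⊓ D.{u} N l ≤ D.{u} N j)).op
      ((Proj.awayToSection (CohB1.polyGrading N ZZ.{u}) (X' j)).hom a) =
      P.presheaf.map (eqToHom e).op ((Proj.awayToSection (CohB1.polyGrading N ZZ.{u}) (X' j * X' l)).hom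
        (awayMap (CohB1.polyGrading N ZZ.{u}) (X_mem N l) rfl a)) := fun a => by
    have := DFunLike.congr_fun (congrArg CommRingCat.Hom.hom (Proj.awayMap_awayToSection
      (CohB1.polyGrading N ZZ.{u}) (f := X' j) (X_mem N l) (x := X' j * X' l) rfl)) a
    simp only [CommRingCat.hom_comp, RingHom.comp_apply, CommRingCat.hom_ofHom] at this
    rw [this]
    erw [← CommRingCat.comp_apply]
  have hlj : ∀ a, P.presheaf.map (homOfLE (inf_le_right : D.{u} N j ⊓ D.{u} N l ≤ D.{u} N l)).op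
      ((Proj.awayToSection (CohB1.polyGrading N ZZ.{u}) (X' l)).hom a) =
      P.presheaf.map (eqToHom e).op ((Proj.awayToSection (CohB1.polyGrading N ZZ.{u}) (X' j * X' l)).hom
        (awayMap (CohB1.polyGrading N ZZ.{u}) (X_mem N j) (mul_comm _ _) a)) := fun a => by
    have := DFunLike.congr_fun (congrArg CommRingCat.Hom.hom (Proj.awayMap_awayToSection
      (CohB1.polyGrading N ZZ.{u}) (f := X' l) (X_mem N j) (x := X' j * X' l) (mul_comm _ _))) a
    simp only [CommRingCat.hom_comp, RingHom.comp_apply, CommRingCat.hom_ofHom] at this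
    rw [this]
    erw [← CommRingCat.comp_apply]
  simp only [T]
  erw [hjl, hjl, hlj, ← map_mul, ← map_mul]
  congr 2
  apply HomogeneousLocalization.val_injective
  simp only [H23.PnLine.coord, HomogeneousLocalization.val_mul, awayMap_mk, Away.val_mk, Localization.mk_mul,
    pow_one]
  refine Localization.mk_eq_mk_iff.mpr ?_
  rw [Localization.r_iff_exists]
  exact ⟨1, by simp; ring⟩

/-- The ratios generate the sections on a chart. -/
theorem closure_T (j : Fin (N + 1)) :
    Subring.closure (Set.range (T.{u} N j)) = ⊤ := by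
  rw [eq_top_iff]
  intro s hs
  clear hs
  obtain ⟨a, rfl⟩ := (Proj.basicOpenIsoAway (CohB1.polyGrading N ZZ.{u}) _ (X_mem N j)
    one_pos).commRingCatIsoToRingEquiv.surjective s
  obtain ⟨d, p, hp, rfl⟩ := HomogeneousLocalization.Away.mk_surjective _ (X_mem N j) a
  show (Proj.awayToSection _ _).hom _ ∈ _
  rw [H23.PnLine.mk_eq_eval (X_mem N j) d p hp, MvPolynomial.hom_eval₂]
  clear hp
  induction p using MvPolynomial.induction_on with
  | C r =>
    rw [MvPolynomial.eval₂_C, H23.PnLine.up_unique _ ((Proj.awayToSection _ _).hom.comp (H23.PnLine.up _))]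
    show ((ULift.ringEquiv r : ℤ) : Γ((Proj (CohB1.polyGrading N ZZ.{u})), D.{u} N j)) ∈ _
    exact intCast_mem _ _
  | add p q hp' hq => rw [MvPolynomial.eval₂_add]; exact add_mem hp' hq
  | mul_X p i hp' =>
    rw [MvPolynomial.eval₂_mul, MvPolynomial.eval₂_X]
    exact mul_mem hp' (Subring.subset_closure ⟨i, rfl⟩)

end Groth.Agent.ZBProjBir
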